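import Cfsg.Agent.H0.TC
set_option maxRecDepth 100000
namespace H0.TCS620
open H0
noncomputable def r0 : TC.WTr := (.node (.node (.node (.node (.node (.node (.leaf [0] 0 0 false) (.leaf [8, 8, 8, 8, 8] 27 0 true)) (.node (.leaf [2, 9, 1, 7, 5, 6] 64 6 false) (.leaf [12] 12 0 false))) (.node (.node (.leaf [11, 0, 4, 14, 8, 8, 4] 65 5 true) (.leaf [11] 10 0 false)) (.node (.leaf [12, 4, 13, 5, 12] 49 4 false) (.leaf [12, 13, 12, 13, 12] 15 5 false)))) (.node (.node (.node (.leaf [14, 2, 6, 12, 6] 62 0 false) (.leaf [7, 13, 9, 13, 8] 35 1 false)) (.node (.leaf [10, 8, 11, 4, 8] 48 5 true) (.leaf [13] 13 0 false))) (.node (.node (.leaf [6, 10, 3, 4] 47 2 false) (.leaf [10] 10 1 false)) (.leaf [10, 6, 12, 13, 12] 36 3 true)))) (.node (.node (.node (.node (.leaf [11, 6, 12, 4, 1, 10] 63 2 false) (.leaf [1, 7, 5, 6, 4, 2] 64 1 false)) (.node (.leaf [5] 4 0 false) (.leaf [10,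 14, 9, 12] 26 4 false))) (.node (.node (.leaf [2, 2, 2, 2, 2, 2] 55 0 true) (.leaf [12, 10, 9] 20 2 false)) (.leaf [6] 6 0 false))) (.node (.node (.node (.leaf [2] 1 0 false) (.leaf [7, 11, 4, 7, 5] 48 3 false)) (.node (.leaf [4] 4 1 false) (.leaf [11, 13, 12, 9] 26 3 true))) (.node (.node (.leaf [3] 3 0 false) (.leaf [4, 0, 5, 12, 4, 0, 5] 71 2 false)) (.leaf [7] 7 1 false))))) (.node (.node (.node (.node (.node (.leaf [10, 1, 5, 7, 7, 14, 5] 65 0 false) (.leaf [7] 7 1 false)) (.node (.leaf [8, 5, 10, 8, 11] 48 3 true) (.leaf [2, 13, 5, 3, 4, 13, 1] 67 1 false))) (.node (.node (.leaf [2, 0, 1, 0, 1, 3] 56 1 true) (.leaf [11] 10 0 false)) (.leaf [12, 13, 12, 7, 10] 36 5 true))) (.node (.node (.node (.leaf [12, 13, 7, 3, 9, 2, 8] 66 2 false) (.leaf [9] 9 0 false)) (.node (.leaf [12, 6, 10, 0, 11, 2] 63 0 true) (.leaf [1, 5, 6, 7, 12, 9, 0, 2] 76 7 true))) (.node (.node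 (.leaf [7, 6, 12, 3, 9, 8, 6] 54 3 true) (.leaf [12] 12 0 false)) (.leaf [1, 9, 3, 8, 13, 12, 2] 66 6 true)))) (.node (.node (.node (.node (.leaf [0] 0 0 false) (.leaf [3, 8, 13, 12, 2, 7, 1] 66 0 true)) (.node (.leaf [7, 7, 14, 5, 0, 10, 1] 65 3 false) (.leaf [7, 3, 9, 2, 8, 1, 12] 66 4 false))) (.node (.node (.leaf [1] 1 1 false) (.leaf [3, 10, 3] 46 3 false)) (.leaf [6, 8, 11, 8, 6] 29 2 false))) (.node (.node (.node (.leaf [2] 1 0 false) (.leaf [3, 4, 3, 6] 47 4 false)) (.node (.leaf [11, 8, 12, 13, 12] 36 0 false) (.leaf [10, 12, 11] 25 1 false))) (.node (.node (.leaf [5] 4 0 false) (.leaf [13, 12, 7, 10, 6] 36 0 true)) (.leaf [2, 0, 4, 8, 9, 13, 11, 0] 75 6 true))))))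
noncomputable def r1 : TC.WTr := (.node (.node (.node (.node (.node (.node (.leaf [1, 0, 1, 3, 2, 2] 56 3 true) (.leaf [7] 7 1 false)) (.node (.leaf [4, 7, 4, 3, 4, 4, 3] 41 6 true) (.leaf [12] 12 0 false))) (.node (.node (.leaf [9, 1, 5, 6, 4, 8] 64 4 true) (.leaf [11] 10 0 false)) (.leaf [10, 0, 11, 2, 5, 12] 63 2 true))) (.node (.node (.node (.leaf [1, 1, 1, 1, 1, 1] 55 0 false) (.leaf [2, 8, 1, 12, 13, 7, 3] 66 7 false)) (.node (.leaf [0, 7, 1, 0, 13, 11, 7, 12] 77 8 false) (.leaf [14] 14 0 false))) (.node (.node (.leaf [14, 13, 3, 14, 13] 51 0 false) (.leaf [10] 10 1 false)) (.leaf [10, 14, 11, 8, 12] 38 2 false)))) (.node (.node (.node (.node (.leaf [2, 0, 1, 1, 3, 2] 56 1 false) (.leaf [5, 0, 12, 0, 4] 61 4 false)) (.node (.leaf [5] 4 0 false) (.leaf [8, 11, 13, 9, 7] 37 1 false))) (.node (.node (.leaf [1] 1 1 false) (.leaf [9, 11, 9, 13, 9, 10, 9, 11] 21 4 false))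 (.leaf [0, 10, 13, 9, 7, 5, 0, 1] 75 2 false))) (.node (.node (.node (.leaf [2] 1 0 false) (.leaf [3, 11, 3] 46 1 false)) (.node (.leaf [6] 6 0 false) (.leaf [1, 0, 9, 12, 8, 6, 4, 2] 76 1 false))) (.node (.node (.leaf [3] 3 0 false) (.leaf [11, 14, 10] 25 3 false)) (.leaf [0, 4, 12, 8, 10, 13, 0, 2] 77 7 true))))) (.node (.node (.node (.node (.node (.leaf [4, 0, 1, 1, 0, 1, 1, 1] 57 8 true) (.leaf [7] 7 1 false)) (.node (.leaf [13, 5, 12, 6, 12] 49 0 false) (.leaf [5, 12, 6, 12, 4] 49 1 false))) (.node (.node (.leaf [5, 12, 6, 10, 0, 11] 63 6 true) (.leaf [0, 4, 14, 8, 8, 4, 2] 65 6 true)) (.leaf [6] 6 0 false))) (.node (.node (.node (.leaf [1, 0, 1, 1, 1, 0, 4, 0] 57 2 true) (.leaf [11] 10 0 false)) (.node (.leaf [4] 4 1 false) (.leaf [8, 0, 2, 12, 1, 0, 7] 72 6 false))) (.node (.node (.leaf [9, 3, 0, 6, 12, 6, 0] 70 1 false) (.leaf [1, 0, 7, 14, 8, 0, 2] 72 2 false))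 (.leaf [8] 7 0 false)))) (.node (.node (.node (.node (.leaf [0] 0 0 false) (.leaf [6, 8, 8, 8, 6] 28 0 true)) (.node (.leaf [3, 11, 6, 3] 47 3 true) (.leaf [9, 7, 5, 0, 1, 7, 0, 10] 75 5 false))) (.node (.node (.leaf [8, 4, 6, 5, 7] 52 4 false) (.leaf [6, 12, 4, 1, 10, 0] 63 3 false)) (.leaf [3, 8, 4, 6, 5] 52 3 false))) (.node (.node (.node (.leaf [1] 1 1 false) (.leaf [11] 10 0 false)) (.node (.leaf [7, 12, 9, 0, 2, 14, 1, 5] 76 1 true) (.leaf [7, 14, 13, 8] 34 1 false))) (.node (.node (.leaf [11, 6, 0, 4, 0, 2, 13] 69 5 false) (.leaf [13, 12, 14, 12, 13] 15 2 false)) (.leaf [13, 12, 2, 7, 1, 9, 3] 66 2 true))))))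
noncomputable def r2 : TC.WTr := (.node (.node (.node (.node (.node (.node (.leaf [2, 13, 4, 11, 6, 0, 4] 69 2 false) (.leaf [11, 4, 8, 5, 10] 48 1 true)) (.node (.leaf [3, 6, 10, 3] 47 1 false) (.leaf [12] 12 0 false))) (.node (.node (.leaf [13, 4, 11, 6, 0, 4, 0] 69 3 false) (.leaf [11] 10 0 false)) (.leaf [5, 3, 4, 3, 5, 3, 4] 40 7 false))) (.node (.node (.node (.leaf [7, 5, 6, 4, 2, 9] 64 2 false) (.leaf [14, 11, 13, 12] 26 2 true)) (.node (.leaf [13, 1, 0, 5, 0, 6, 10] 69 2 true) (.leaf [13] 13 0 false))) (.node (.node (.leaf [11, 3, 10] 46 2 false) (.leaf [10] 10 1 false)) (.leaf [13, 8, 9, 13, 10] 37 3 true)))) (.node (.node (.node (.node (.leaf [4, 9, 5, 0, 12] 61 2 false) (.leaf [3, 0, 6, 12, 6, 0, 3] 70 2 false)) (.node (.leaf [5] 4 0 false) (.leaf [9, 10, 9, 11, 11, 9, 11, 9] 21 8 false))) (.node (.node (.leaf [1] 1 1 false) (.leaf [8, 12, 13, 12, 6] 36 1 false))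 (.leaf [8] 7 0 false))) (.node (.node (.node (.leaf [2] 1 0 false) (.leaf [10, 10, 10] 19 0 false)) (.node (.leaf [4] 4 1 false) (.leaf [6, 14, 6] 33 1 false))) (.node (.node (.leaf [3] 3 0 false) (.leaf [7, 10, 6, 12, 13] 36 2 true)) (.leaf [1, 12, 13, 7, 3, 9, 2] 66 1 false))))) (.node (.node (.node (.node (.node (.leaf [1, 1, 3, 2, 0, 2] 56 3 false) (.leaf [7] 7 1 false)) (.node (.leaf [10, 6, 11, 5, 6] 50 2 false) (.leaf [3, 0, 3, 13, 3, 0, 3] 74 2 false))) (.node (.node (.leaf [2, 0, 2, 2, 0, 5, 0, 2] 57 2 false) (.leaf [10] 10 1 false)) (.leaf [12, 6, 1, 14, 2] 62 3 false))) (.node (.node (.node (.leaf [10, 0, 11, 6, 12, 4] 63 0 false) (.leaf [9] 9 0 false)) (.node (.leaf [4] 4 1 false) (.leaf [3, 0, 3, 14, 3, 0, 3] 73 2 false))) (.node (.node (.leaf [9, 8, 6, 3, 7, 6, 12] 54 7 true) (.leaf [0, 4, 9, 5, 0] 61 1 false)) (.leaf [8] 7 0 false)))) (.node (.node (.node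 (.node (.leaf [0] 0 0 false) (.leaf [6, 7, 7, 7, 6] 28 5 false)) (.node (.leaf [12, 6, 12, 4, 13] 49 2 false) (.leaf [9, 7, 13, 8, 11] 37 4 false))) (.node (.node (.leaf [3] 3 0 false) (.leaf [5, 11, 5] 45 1 false)) (.leaf [6, 9, 6, 7, 7] 28 3 false))) (.node (.node (.node (.leaf [2] 1 0 false) (.leaf [1, 5, 7, 7, 14, 5, 0] 65 1 false)) (.node (.leaf [14, 6, 14] 33 0 false) (.leaf [13, 8, 14, 7] 34 3 false))) (.node (.node (.leaf [2, 11, 0, 4, 14, 8, 8] 65 4 true) (.leaf [6, 1, 14, 2, 6] 62 4 false)) (.leaf [6, 4, 2, 14, 1, 0, 9, 12] 76 6 false))))))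
noncomputable def r3 : TC.WTr := (.node (.node (.node (.node (.node (.node (.leaf [4, 12, 8, 10, 13, 0, 2, 8] 77 8 true) (.leaf [7] 7 1 false)) (.node (.leaf [3, 4, 4, 7, 4, 3, 4] 41 4 true) (.leaf [13] 13 0 false))) (.node (.node (.leaf [0, 1, 1, 3, 2, 0] 56 2 false) (.leaf [11] 10 0 false)) (.leaf [9, 6, 7, 7, 7] 28 4 false))) (.node (.node (.node (.leaf [0, 7, 14, 8, 0, 2, 12] 72 3 false) (.leaf [9] 9 0 false)) (.node (.leaf [0, 2, 2, 2, 0, 2, 2, 0] 57 8 false) (.leaf [2, 6, 12, 6, 1] 62 1 false))) (.node (.node (.leaf [5, 3, 4, 6, 5, 3, 4] 40 3 false) (.leaf [10] 10 1 false)) (.leaf [1, 0, 13, 11, 7, 12, 5, 0] 77 1 false)))) (.node (.node (.node (.node (.leaf [0] 0 0 false) (.leaf [13, 8, 9, 7, 13] 35 4 false)) (.node (.leaf [4] 4 1 false) (.leaf [12, 6, 11, 8, 12] 36 4 false))) (.node (.node (.leaf [1] 1 1 false) (.leaf [8, 6, 7, 6, 8] 29 5 false)) (.leaf [5, 10,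 7, 11, 4] 48 1 false))) (.node (.node (.node (.leaf [2] 1 0 false) (.leaf [14, 9, 12, 13] 26 0 false)) (.node (.leaf [0, 4, 9, 13, 9, 5, 0] 68 1 false) (.leaf [13, 14, 13] 18 1 false))) (.node (.node (.leaf [3] 3 0 false) (.leaf [10, 9, 11] 20 3 false)) (.leaf [14, 7, 14, 13] 34 0 false))))) (.node (.node (.node (.node (.node (.leaf [2, 0, 1, 0, 2, 0, 1] 59 2 false) (.leaf [9] 9 0 false)) (.node (.leaf [5] 4 0 false) (.leaf [9, 5, 0, 6, 0, 4, 9] 68 5 false))) (.node (.node (.leaf [7, 1, 9, 3, 8, 13, 12] 66 5 true) (.leaf [13, 9, 7, 13, 8] 37 3 false)) (.leaf [6] 6 0 false))) (.node (.node (.node (.leaf [1, 3, 2, 0, 2, 0] 56 4 false) (.leaf [0, 11, 6, 12, 4, 1] 63 1 false)) (.node (.leaf [4] 4 1 false) (.leaf [8, 14, 7, 13] 34 1 true))) (.node (.node (.leaf [2, 0, 2, 0, 1, 1] 56 6 false) (.leaf [5, 0, 7, 1, 0, 13, 11, 7] 77 7 false)) (.leaf [8] 7 0 false)))) (.node (.node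 (.node (.node (.leaf [2] 1 0 false) (.leaf [13, 9, 5, 0, 6, 0, 4] 68 4 false)) (.node (.leaf [0, 6, 10, 5, 13, 1, 0] 69 6 true) (.leaf [5, 3, 4, 13, 1, 13, 2] 67 3 false))) (.node (.node (.leaf [4, 13, 1, 13, 2, 13, 5] 67 5 false) (.leaf [6, 3, 5, 3] 47 0 true)) (.leaf [7, 6, 9, 6, 7] 28 2 false))) (.node (.node (.node (.leaf [12, 1, 0, 7, 14, 8, 0] 72 1 false) (.leaf [11] 10 0 false)) (.node (.leaf [8, 8, 8, 6, 9] 28 1 true) (.leaf [11, 8, 12, 7, 10] 38 4 false))) (.node (.node (.leaf [10, 4, 10] 45 1 true) (.leaf [2, 7, 1, 9, 3, 8, 13] 66 4 true)) (.leaf [3, 7, 7, 7, 3, 7, 12] 53 7 false))))))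
noncomputable def tS : Tr := (.leaf (nat_lit 0xfffcae4b7f8ff08a0ee8ac2d1caba5f03710f7a2fffb6dd1becf3c4edaeaccb08ea347c6f928703dffd905603cae6d5a0179656ddb9e7b83f8cd0b61ffe64e38880f206a76e95da638f93fa5e3772593ffd838ae4783e2b60d7a0f280656198b6ecdaeaaffc8691a2a8062572e015d03c97e777cb2980b0affe90b928a8a64597308abef30f1e47565aa6254ffe989f322bce97a623fbb72a895980f27dc2eecffe0b8fe0b9f1cfcfac8b227ba767eae03cdaa75fffefedf407b9d2c8f32c3b5490a5edad3eed83cffd7707d7d91976204b2c31d16ba0c665e7ac2e8ffecce68b81db629f6d7c3cd46e07607ecda4ecdffe0789deb7be6773ed1982c298b0da4ab007dadffdb2ed1ce8b1e47a95b67d9169e2cabd759f41fffc615d59347571425bd6841e719bb57732e6e97ffe7db44b4fb876422ebbaf3e5c7d2079e4ed700ffd99555b14dcfe7c9555e9af5a153d181e745bcffc8d074fe6653d569a0354ce645d1799f258ad3ffd3d65553489f2075ac7c97ae6dae725f4659cfffd856145c739386419e725538341dfbe4a81245ffcaf16ccb2bccb16c931dce7074c6d6b978b056ffc5a16a7d2609c16b62d6aaf271b10775bc77d3ffc574fc59575414d8555df0d91d944046f0746effc585506d5606c4e06b1546a3f8691a01d19c66ffc751253d0e5230ec3b15d745dd961204700046ffc3a0e92248c39474fe3884539d1c1100010c77ffcb21083915857104741d4391003f0f83d0f000ffc0000000000000000000000000000001f0781d))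
noncomputable def tJ : Tr := (.leaf (nat_lit 0x810c104010ad69029515000e4052759141401254458001643028a931d484812b0356690c0942803200e83818a318094480540105198074240638072300e1010a00000800805048c62800302ceb500863000591806101403a02019d0000240200000000141c0020003049a04c54029060188e500c0300c0638000018058804508105080010000500c1110007024001900002401044c03990401800900040000300527010400246090807100000002018040102410340581400200031006400120300032c0a4288020000403804308c001010000032808318803008500840608c0311c001000700e072002011445000400000104002004800006008020040000800030461080002001000801080012802000010000000002000000080000020003def7bdef7bdef78000))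
noncomputable def tQ : Tr := (.leaf (nat_lit 0x0))
noncomputable def tR : TC.WTr := (.node (.node r0 r1) (.node r2 r3))
def hl : List ℕ := [3, 4, 5, 5, 4, 6, 7, 8, 8, 7, 9, 10, 11, 11, 10, 12, 13, 14]
def B : List (List ℕ) := [[0, 0], [1, 2], [2, 1], [3, 3], [4, 5], [5, 4], [6, 6], [7, 8], [8, 7], [9, 9], [10, 11], [11, 10], [12, 12], [13, 13], [14, 14], [12, 13, 12, 13, 12, 14], [12, 13, 12, 13, 12, 13, 12, 13, 12, 13, 12, 13], [12, 13, 12, 13, 12, 13, 12, 13, 12, 13, 12, 13], [13, 14, 13, 14], [10, 10, 10, 10], [10, 9, 11, 12], [9, 10, 9, 11, 11, 9, 11, 9, 13], [9, 10, 9, 10, 9, 10, 9, 10, 9, 10], [9, 10, 9, 11, 9, 10, 9, 11, 9, 10, 9, 11], [9, 11, 9, 11, 9, 11, 9, 11, 9, 11], [11, 14, 10, 12], [10, 14, 9, 12, 13], [7, 7, 7, 7, 7, 7], [6, 7, 7, 7, 6, 9], [8, 6, 7, 6, 8, 11], [6, 7, 6, 7, 6, 7, 6, 7, 6, 7, 6, 7, 6, 7, 6, 7], [6, 7, 6, 8, 6, 7, 6, 8, 6, 7, 6, 8, 6, 7,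 6, 8, 6, 7, 6, 8], [6, 8, 6, 8, 6, 8, 6, 8, 6, 8, 6, 8, 6, 8, 6, 8], [6, 14, 6, 14], [8, 14, 7, 14, 13], [8, 9, 7, 13, 9, 13], [6, 11, 8, 12, 13, 12], [7, 13, 8, 11, 13, 9], [8, 12, 7, 10, 14, 11], [4, 4, 4, 4, 4, 4, 4, 4, 4, 4, 4, 4], [5, 3, 4, 3, 5, 3, 4, 6], [5, 5, 3, 5, 5, 3, 5, 8], [3, 4, 3, 4, 3, 4, 3, 4, 3, 4, 3, 4], [3, 4, 3, 5, 3, 4, 3, 5, 3, 4, 3, 5, 3, 4, 3, 5, 3, 4, 3, 5], [3, 5, 3, 5, 3, 5, 3, 5, 3, 5, 3, 5], [5, 11, 5, 11], [3, 10, 3, 11], [3, 4, 3, 6, 10], [4, 7, 5, 10, 7, 11], [4, 13, 5, 12, 6, 12], [5, 6, 4, 10, 6, 11], [3, 14, 13, 3, 14, 13], [4, 6, 5, 7, 3, 8], [3, 7, 7, 7, 3, 7, 12, 8], [3, 12, 6, 8, 3, 6, 7, 9], [1, 1, 1, 1, 1, 1, 1], [2, 0, 2, 0, 1, 1, 3], [0, 2, 2, 2, 0, 2, 2, 0, 5], [0, 1, 0, 1, 0, 1, 0, 1, 0, 1, 0, 1, 0, 1, 0, 1, 0, 1], [0, 1, 0, 2, 0, 1, 0, 2], [0, 2, 0, 2, 0, 2, 0, 2, 0, 2, 0, 2, 0, 2, 0, 2, 0, 2], [0, 12, 0, 4, 9, 5], [1, 14,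 2, 6, 12, 6], [1, 10, 0, 11, 6, 12, 4], [2, 9, 1, 7, 5, 6, 4], [0, 10, 1, 5, 7, 7, 14, 5], [2, 8, 1, 12, 13, 7, 3, 9], [1, 13, 2, 13, 5, 3, 4, 13], [0, 6, 0, 4, 9, 13, 9, 5], [0, 4, 0, 2, 13, 4, 11, 6], [0, 3, 9, 3, 0, 6, 12, 6], [0, 5, 12, 4, 0, 5, 12, 4], [0, 2, 12, 1, 0, 7, 14, 8], [0, 3, 14, 3, 0, 3, 14, 3], [0, 3, 13, 3, 0, 3, 13, 3], [0, 1, 7, 0, 10, 13, 9, 7, 5], [2, 14, 1, 0, 9, 12, 8, 6, 4], [0, 7, 1, 0, 13, 11, 7, 12, 5]]
def subs : List (List ℕ) := [[3], [4], [5], [6], [7], [8], [9], [10], [11], [12], [13], [14]]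
def ex : List (List ℕ) := []
def inv (x : ℕ) : ℕ := [0, 2, 1, 3, 5, 4, 6, 8, 7, 9, 11, 10, 12, 13, 14].getD x 0
noncomputable def rS : ℕ → ℕ := rowOf tS (nat_lit 7) (nat_lit 127) (nat_lit 160) (nat_lit 1461501637330902918203684832716283019655932542975)
noncomputable def rJ : ℕ → ℕ := rowOf tJ (nat_lit 7) (nat_lit 127) (nat_lit 85) (nat_lit 38685626227668133590597631)
noncomputable def C : TC.Cfg where
  S := look rS (nat_lit 10) (nat_lit 1023)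
  J := look rJ (nat_lit 5) (nat_lit 31)
  Q := lookQ tQ (nat_lit 7) (nat_lit 1) (nat_lit 1)
  R := tR.get
  hl := fun x => hl.contains x
  n := (nat_lit 28)
  M := (nat_lit 28)
  top := (nat_lit 1008)
  nl := (nat_lit 15)
  need := (nat_lit 15)
  nr := (nat_lit 15)
theorem k0 : TC.chkRange C 0 1 = true := by decide +kernel
theorem rows0 : ∀ c < (0 + 1) * 64, c < C.M → TC.chkRow C c = true :=
  TC.rows_step (TC.rows_zero C) k0
theorem main {G : Type*} [Group G] (g : ℕ → G) (hB : ∀ r ∈ B, ev g r = 1) (H : Subgroup G)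
    (hH : ∀ w ∈ subs, ev g w ∈ H) :
    H.relIndex (Subgroup.closure (g '' {x | x < 15})) ≠ 0 ∧
      H.relIndex (Subgroup.closure (g '' {x | x < 15})) ≤ 28 :=
  TC.index_le C B subs ex inv hl tR.hint rfl (by decide +kernel) (by decide +kernel)
    (TC.rows_done rows0 (by decide +kernel)) g hB H hH
end H0.TCS620
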